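import Mathlib

/-!
Bruhat normal forms `g = u * h * n_w * v` abstractly: the order formula, and the normal form of the
fixed points of an endomorphism compatible with it.
-/
set_option autoImplicit false

namespace Cfsg.Agent.H37

/-- A group with a unique normal form `u * h * n w * v`. -/
structure NormalForm (G W : Type*) [Group G] where
  U : Subgroup G
  H : Subgroup G
  n : W → G
  Uw : W → Subgroup G
  exists_eq : ∀ g, ∃ u ∈ U, ∃ h ∈ H, ∃ w, ∃ v ∈ Uw w, g = u * h * n w * v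
  unique : ∀ {u u' h h' v v' : G} {w w' : W}, u ∈ U → u' ∈ U → h ∈ H → h' ∈ H → v ∈ Uw w →
    v' ∈ Uw w' → u * h * n w * v = u' * h' * n w' * v' → w = w' ∧ u = u' ∧ h = h' ∧ v = v'

namespace NormalForm

variable {G W : Type*} [Group G] (Φ : NormalForm G W)

/-- The parametrisation. -/
noncomputable def equiv : ↥Φ.U × ↥Φ.H × (Σ w, ↥(Φ.Uw w)) ≃ G :=
  Equiv.ofBijective (fun p => p.1.1 * p.2.1.1 * Φ.n p.2.2.1 * p.2.2.2.1)
    ⟨fun p q hpq => by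
      obtain ⟨⟨u, hu⟩, ⟨h, hh⟩, w, ⟨v, hv⟩⟩ := p
      obtain ⟨⟨u', hu'⟩, ⟨h', hh'⟩, w', ⟨v', hv'⟩⟩ := q
      obtain ⟨rfl, rfl, rfl, rfl⟩ := Φ.unique hu hu' hh hh' hv hv' hpq
      rfl,
    fun g => by
      obtain ⟨u, hu, h, hh, w, v, hv, rfl⟩ := Φ.exists_eq g
      exact ⟨(⟨u, hu⟩, ⟨h, hh⟩, ⟨w, ⟨v, hv⟩⟩), rfl⟩⟩

theorem card_eq [Fintype W] [Finite G] :
    Nat.card G = Nat.card Φ.U * Nat.card Φ.H * ∑ w, Nat.card (Φ.Uw w) := by
  rw [← Nat.card_congr Φ.equiv, Nat.card_prod, Nat.card_prod, Nat.card_sigma, mul_assoc]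

/-- An endomorphism compatible with a normal form, with fixed representatives on fixed `w`. -/
structure Compat (σ : G →* G) where
  τ : W → W
  c : W → G
  c_mem : ∀ w, c w ∈ Φ.H
  c_fixed : ∀ w, τ w = w → c w = 1
  map_U : ∀ u ∈ Φ.U, σ u ∈ Φ.U
  map_H : ∀ h ∈ Φ.H, σ h ∈ Φ.H
  map_Uw : ∀ w, ∀ v ∈ Φ.Uw w, σ v ∈ Φ.Uw (τ w)
  map_n : ∀ w, σ (Φ.n w) = c w * Φ.n (τ w)

variable {Φ} {σ : G →* G} (C : Φ.Compat σ)

theorem Compat.fixed_iff {u h v : G} {w : W} (hu : u ∈ Φ.U) (hh : h ∈ Φ.H) (hv : v ∈ Φ.Uw w) :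
    σ (u * h * Φ.n w * v) = u * h * Φ.n w * v ↔ C.τ w = w ∧ σ u = u ∧ σ h = h ∧ σ v = v := by
  constructor
  · intro he
    rw [map_mul, map_mul, map_mul, C.map_n, show σ u * σ h * (C.c w * Φ.n (C.τ w)) * σ v
      = σ u * (σ h * C.c w) * Φ.n (C.τ w) * σ v by group] at he
    obtain ⟨h1, h2, h3, h4⟩ := Φ.unique (C.map_U u hu) hu
      (mul_mem (C.map_H h hh) (C.c_mem w)) hh (C.map_Uw w v hv) hv he
    rw [C.c_fixed w h1, mul_one] at h3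
    exact ⟨h1, h2, h3, h4⟩
  · rintro ⟨h1, h2, h3, h4⟩
    rw [map_mul, map_mul, map_mul, C.map_n, h1, h2, h3, h4, C.c_fixed w h1, one_mul]

theorem Compat.n_fixed {w : W} (h : C.τ w = w) : σ (Φ.n w) = Φ.n w := by
  rw [C.map_n, h, C.c_fixed w h, one_mul]

/-- The fixed points of `σ`. -/
abbrev fixedPts (σ : G →* G) : Subgroup G := σ.eqLocus (MonoidHom.id G)

theorem mem_fixedPts {g : G} : g ∈ fixedPts σ ↔ σ g = g := Iff.rfl

/-- The induced normal form on the fixed points. -/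
noncomputable def Compat.normalForm : NormalForm ↥(fixedPts σ) {w : W // C.τ w = w} where
  U := Φ.U.subgroupOf _
  H := Φ.H.subgroupOf _
  n w := ⟨Φ.n w.1, C.n_fixed w.2⟩
  Uw w := (Φ.Uw w.1).subgroupOf _
  exists_eq := by
    rintro ⟨g, hg⟩
    obtain ⟨u, hu, h, hh, w, v, hv, rfl⟩ := Φ.exists_eq g
    obtain ⟨h1, h2, h3, h4⟩ := (C.fixed_iff hu hh hv).1 hg
    exact ⟨⟨u, h2⟩, hu, ⟨h, h3⟩, hh, ⟨w, h1⟩, ⟨v, h4⟩, hv, Subtype.ext rfl⟩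
  unique := by
    intro u u' h h' v v' w w' hu hu' hh hh' hv hv' he
    obtain ⟨h1, h2, h3, h4⟩ := Φ.unique hu hu' hh hh' hv hv' (congrArg Subtype.val he)
    exact ⟨Subtype.ext h1, Subtype.ext h2, Subtype.ext h3, Subtype.ext h4⟩

include C in
/-- A subgroup containing all fixed pieces contains all fixed points. -/
theorem Compat.fixedPts_le {T : Subgroup G} (hU : Φ.U ⊓ fixedPts σ ≤ T)
    (hH : Φ.H ⊓ fixedPts σ ≤ T) (hn : ∀ w, C.τ w = w → Φ.n w ∈ T)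
    (hUw : ∀ w, C.τ w = w → Φ.Uw w ⊓ fixedPts σ ≤ T) : fixedPts σ ≤ T := by
  intro g hg
  obtain ⟨u, hu, h, hh, w, v, hv, rfl⟩ := Φ.exists_eq g
  obtain ⟨h1, h2, h3, h4⟩ := (C.fixed_iff hu hh hv).1 hg
  exact mul_mem (mul_mem (mul_mem (hU ⟨hu, h2⟩) (hH ⟨hh, h3⟩)) (hn w h1)) (hUw w h1 ⟨hv, h4⟩)

end NormalForm

end Cfsg.Agent.H37
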