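import Cfsg.Agent.H37.Order

/-!
Elements of `GL` given by root elements and words, elementary consequences.
-/
set_option autoImplicit false

namespace Cfsg.Agent.H37

open Cfsg.Lie

variable {D : ChevalleyDatum} {F : Type*} [Field F]

lemma x_zero (r : ℕ) : D.x F r (0 : F) = 1 := by
  by_cases hr : r < D.nroots
  · rw [x_eq_xMat hr]
    ext a b
    rw [Matrix.one_apply]
    rcases b with i | s
    · rcases a with i' | u <;> simp [ChevalleyDatum.xMat]
    · by_cases hs : s = (⟨r, hr⟩ : Fin D.nroots)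
      · rcases a with i' | u <;> simp [ChevalleyDatum.xMat, hs]
      · by_cases hsn : s.val = D.negIdx.getD r 0
        · rcases a with i' | u
          · simp [ChevalleyDatum.xMat, hs, hsn]
          · by_cases hus : u = s
            · simp only [ChevalleyDatum.xMat, Matrix.of_apply, if_neg hs, if_pos hsn, if_pos hus]
              simp [hus]
            · simp only [ChevalleyDatum.xMat, Matrix.of_apply, if_neg hs, if_pos hsn, if_neg hus]
              simp [hus]
        · rcases a with i' | u
          · simp [ChevalleyDatum.xMat, hs, hsn]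
          · simp only [ChevalleyDatum.xMat, Matrix.of_apply, if_neg hs, if_neg hsn]
            have hz : ((D.chainCoeff r s.val u.val).map
                fun km => ((km.2 : ℤ) : F) * (0 : F) ^ km.1).sum = 0 := by
              apply List.sum_eq_zero
              intro x hx
              obtain ⟨km, hkm, rfl⟩ := List.mem_map.1 hx
              simp only [ChevalleyDatum.chainCoeff, List.mem_flatMap, List.mem_map] at hkm
              obtain ⟨e, -, q, -, rfl⟩ := hkm
              simp
            rw [hz]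
            by_cases hus : u = s <;> simp [hus]
  · simp [ChevalleyDatum.x, hr]

section Map

variable {F' : Type*} [Field F'] (f : F →+* F')

lemma x_map (r : ℕ) (t : F) : (D.x F r t).map f = D.x F' r (f t) := by
  by_cases hr : r < D.nroots
  · rw [x_eq_xMat hr, x_eq_xMat hr]
    ext a b
    rw [Matrix.map_apply]
    rcases b with i | s
    · rcases a with i' | u <;>
        simp only [ChevalleyDatum.xMat, Matrix.of_apply] <;> split_ifs <;> simp
    · by_cases hs : s = (⟨r, hr⟩ : Fin D.nroots)
      · rcases a with i' | u <;>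
          simp only [ChevalleyDatum.xMat, Matrix.of_apply, if_pos hs] <;>
          (try split_ifs) <;> simp
      · by_cases hsn : s.val = D.negIdx.getD r 0
        · rcases a with i' | u <;>
            simp only [ChevalleyDatum.xMat, Matrix.of_apply, if_neg hs, if_pos hsn] <;>
            (try split_ifs) <;> simp
        · rcases a with i' | u
          · simp only [ChevalleyDatum.xMat, Matrix.of_apply, if_neg hs, if_neg hsn]; simp
          · simp only [ChevalleyDatum.xMat, Matrix.of_apply, if_neg hs, if_neg hsn]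
            rw [map_add, map_list_sum, List.map_map]
            congr 1
            · split_ifs <;> simp
            · congr 2
              ext km
              simp
  · simp [ChevalleyDatum.x, hr]

end Map

/-- `x_r(t)` in `GL`. -/
noncomputable def xGL (hO : Ordered D) (r : ℕ) (t : F) : GL D.Idx F := (x_isUnit hO r t).unit

@[simp] lemma coe_xGL (hO : Ordered D) (r : ℕ) (t : F) :
    ((xGL hO r t : GL D.Idx F) : Matrix D.Idx D.Idx F) = D.x F r t := rfl

/-- The value of a word in `GL`. -/
noncomputable def wordGL (hO : Ordered D) (w : List (ℕ × F)) : GL D.Idx F :=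
  (w.map fun p => xGL hO p.1 p.2).prod

lemma coe_wordGL (hO : Ordered D) (w : List (ℕ × F)) :
    ((wordGL hO w : GL D.Idx F) : Matrix D.Idx D.Idx F) = D.wordMat F w := by
  induction w with
  | nil => simp [wordGL, ChevalleyDatum.wordMat]
  | cons p w ih =>
      have h1 : wordGL hO (p :: w) = xGL hO p.1 p.2 * wordGL hO w := by simp [wordGL]
      rw [h1, Units.val_mul, ih, coe_xGL]
      simp [ChevalleyDatum.wordMat]

lemma eq_wordGL (hO : Ordered D) {w : List (ℕ × F)} {g : GL D.Idx F}
    (hg : (g : Matrix D.Idx D.Idx F) = D.wordMat F w) : g = wordGL hO w :=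
  Units.ext (by rw [hg, coe_wordGL])

/-- `n_r(t)` in `GL`. -/
noncomputable def nGL (hO : Ordered D) (r : ℕ) (t : F) : GL D.Idx F := wordGL hO (D.nWord r t)

/-- `h_r(t)` in `GL`. -/
noncomputable def hGL (hO : Ordered D) (r : ℕ) (t : F) : GL D.Idx F := wordGL hO (D.hWord r t)

lemma coe_nGL (hO : Ordered D) (r : ℕ) (t : F) :
    ((nGL hO r t : GL D.Idx F) : Matrix D.Idx D.Idx F) = D.nMat F r t := coe_wordGL hO _

lemma coe_hGL (hO : Ordered D) (r : ℕ) (t : F) :
    ((hGL hO r t : GL D.Idx F) : Matrix D.Idx D.Idx F) = D.hMat F r t := coe_wordGL hO _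

lemma nGL_eq (hO : Ordered D) (r : ℕ) (t : F) :
    nGL hO r t = xGL hO r t * xGL hO (D.neg r) (-t⁻¹) * xGL hO r t := by
  simp [nGL, wordGL, ChevalleyDatum.nWord, mul_assoc]

lemma hGL_eq (hO : Ordered D) (r : ℕ) (t : F) : hGL hO r t = nGL hO r t * nGL hO r (-1) := by
  simp [hGL, nGL, wordGL, ChevalleyDatum.hWord]

lemma xGL_zero (hO : Ordered D) (r : ℕ) : xGL hO r (0 : F) = 1 := Units.ext (x_zero r)

lemma xGL_of_le (hO : Ordered D) {r : ℕ} (hr : D.nroots ≤ r) (t : F) : xGL hO r t = 1 :=
  Units.ext (by simp [ChevalleyDatum.x, show ¬ r < D.nroots by omega])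

lemma xGL_mem_group (hO : Ordered D) (r : ℕ) (t : F) : xGL hO r t ∈ D.group F := by
  by_cases hr : r < D.nroots
  · exact Subgroup.subset_closure ⟨⟨r, hr⟩, t, x_eq_xMat hr t⟩
  · rw [xGL_of_le hO (by omega)]; exact one_mem _

lemma wordGL_mem_group (hO : Ordered D) (w : List (ℕ × F)) : wordGL hO w ∈ D.group F := by
  refine Subgroup.list_prod_mem _ ?_
  intro g hg
  obtain ⟨p, -, rfl⟩ := List.mem_map.1 hg
  exact xGL_mem_group hO p.1 p.2

lemma posUnipotent_le_group : D.posUnipotent F ≤ D.group F := by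
  refine (Subgroup.closure_le _).2 ?_
  rintro g ⟨r, t, hr, hg⟩
  exact Subgroup.subset_closure ⟨⟨r, hr.1⟩, t, hg.trans (x_eq_xMat hr.1 t)⟩

lemma negUnipotent_le_group : D.negUnipotent F ≤ D.group F := by
  refine (Subgroup.closure_le _).2 ?_
  rintro g ⟨r, t, hr, hg⟩
  exact Subgroup.subset_closure ⟨⟨r, hr.1⟩, t, hg.trans (x_eq_xMat hr.1 t)⟩

theorem pos_sup_neg_eq_group (hO : Ordered D) :
    D.posUnipotent F ⊔ D.negUnipotent F = D.group F := by
  refine le_antisymm (sup_le posUnipotent_le_group negUnipotent_le_group) ?_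
  refine (Subgroup.closure_le _).2 ?_
  rintro g ⟨r, t, hg⟩
  have hg' : (g : Matrix D.Idx D.Idx F) = D.x F r.val t := hg.trans (x_eq_xMat r.isLt t).symm
  rcases hO.pos_or_neg r.isLt with h | h
  · exact Subgroup.mem_sup_left (Subgroup.subset_closure ⟨r.val, t, h, hg'⟩)
  · exact Subgroup.mem_sup_right (Subgroup.subset_closure ⟨r.val, t, h, hg'⟩)

theorem diagonal_le_group (hO : Ordered D) : D.diagonalSubgroup F ≤ D.group F := by
  refine (Subgroup.closure_le _).2 ?_
  rintro g ⟨r, t, -, -, hg⟩
  rw [eq_wordGL hO hg]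
  exact wordGL_mem_group hO _

theorem monomial_le_group (hO : Ordered D) : D.monomialSubgroup F ≤ D.group F := by
  refine sup_le (diagonal_le_group hO) ((Subgroup.closure_le _).2 ?_)
  rintro g ⟨r, -, hg⟩
  rw [eq_wordGL hO hg]
  exact wordGL_mem_group hO _

theorem borel_le_group (hO : Ordered D) : D.borelSubgroup F ≤ D.group F :=
  sup_le posUnipotent_le_group (diagonal_le_group hO)

lemma hGL_mem_diagonal (hO : Ordered D) {r : ℕ} (hr : r < D.nroots) {t : F} (ht : t ≠ 0) :
    hGL hO r t ∈ D.diagonalSubgroup F :=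
  Subgroup.subset_closure ⟨r, t, hr, ht, coe_hGL hO r t⟩

lemma nGL_mem_monomial (hO : Ordered D) {r : ℕ} (hr : r < D.nroots) {t : F} (ht : t ≠ 0) :
    nGL hO r t ∈ D.monomialSubgroup F := by
  have hH : D.diagonalSubgroup F ≤ D.monomialSubgroup F := le_sup_left
  have h1 : nGL hO r (1 : F) ∈ D.monomialSubgroup F :=
    Subgroup.mem_sup_right (Subgroup.subset_closure ⟨r, hr, coe_nGL hO r 1⟩)
  have hm : nGL hO r (-1 : F) ∈ D.monomialSubgroup F := by
    have : nGL hO r (-1 : F) = (nGL hO r 1)⁻¹ * hGL hO r 1 := by rw [hGL_eq]; group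
    rw [this]
    exact mul_mem (inv_mem h1) (hH (hGL_mem_diagonal hO hr one_ne_zero))
  have : nGL hO r t = hGL hO r t * (nGL hO r (-1))⁻¹ := by rw [hGL_eq]; group
  rw [this]
  exact mul_mem (hH (hGL_mem_diagonal hO hr ht)) (inv_mem hm)

theorem borel_sup_monomial_eq_group (hO : Ordered D) :
    D.borelSubgroup F ⊔ D.monomialSubgroup F = D.group F := by
  refine le_antisymm (sup_le (borel_le_group hO) (monomial_le_group hO)) ?_
  rw [← pos_sup_neg_eq_group hO]
  refine sup_le (le_trans le_sup_left le_sup_left) ((Subgroup.closure_le _).2 ?_)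
  rintro g ⟨r, u, hr, hg⟩
  rw [Units.ext (show (g : Matrix D.Idx D.Idx F) = (xGL hO r u : GL D.Idx F) from hg)]
  by_cases hu : u = 0
  · rw [hu, xGL_zero]; exact one_mem _
  set p := D.neg r
  have hp : D.IsPosRoot p := (hO.neg_pos_iff hr.1).2 hr
  set t : F := -u⁻¹ with ht
  have ht0 : t ≠ 0 := by simp [ht, hu]
  have hpr : D.neg p = r := hO.neg_neg hr.1
  have htu : -t⁻¹ = u := by simp [ht, inv_neg]
  have hxp : xGL hO p t ∈ D.borelSubgroup F ⊔ D.monomialSubgroup F :=
    Subgroup.mem_sup_left (Subgroup.mem_sup_left (Subgroup.subset_closure ⟨p, t, hp, rfl⟩))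
  have hn : nGL hO p t ∈ D.borelSubgroup F ⊔ D.monomialSubgroup F :=
    Subgroup.mem_sup_right (nGL_mem_monomial hO hp.1 ht0)
  have : xGL hO r u = (xGL hO p t)⁻¹ * nGL hO p t * (xGL hO p t)⁻¹ := by
    rw [nGL_eq, hpr, htu]; group
  rw [this]
  exact mul_mem (mul_mem (inv_mem hxp) hn) (inv_mem hxp)

theorem exists_field_aut (hO : Ordered D) (f : F ≃+* F) :
    ∃ α : ↥(D.group F) ≃* ↥(D.group F), ∀ (g : ↥(D.group F)) (r : ℕ) (t : F), r < D.nroots →
      ((g : GL D.Idx F) : Matrix D.Idx D.Idx F) = D.x F r t →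
      ((α g : GL D.Idx F) : Matrix D.Idx D.Idx F) = D.x F r (f t) := by
  set Φ : GL D.Idx F ≃* GL D.Idx F := Units.mapEquiv (f.mapMatrix (m := D.Idx)).toMulEquiv with hΦ
  have hval : ∀ g : GL D.Idx F,
      ((Φ g : GL D.Idx F) : Matrix D.Idx D.Idx F) = (g : Matrix D.Idx D.Idx F).map f := fun _ => rfl
  have key : ∀ (r : ℕ) (t : F), Φ (xGL hO r t) = xGL hO r (f t) := fun r t =>
    Units.ext (by rw [hval]; exact x_map (f : F →+* F) r t)
  have hmap : (D.group F).map Φ.toMonoidHom = D.group F := by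
    refine le_antisymm ?_ ?_
    · rw [ChevalleyDatum.group, MonoidHom.map_closure]
      refine (Subgroup.closure_le _).2 ?_
      rintro _ ⟨g, ⟨r, t, hg⟩, rfl⟩
      have hg' : g = xGL hO r.val t := Units.ext (hg.trans (x_eq_xMat r.isLt t).symm)
      rw [hg']
      exact (key r.val t).symm ▸ xGL_mem_group hO r.val (f t)
    · rw [ChevalleyDatum.group]
      refine (Subgroup.closure_le _).2 ?_
      rintro g ⟨r, t, hg⟩
      have hg' : g = xGL hO r.val t := Units.ext (hg.trans (x_eq_xMat r.isLt t).symm)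
      refine ⟨xGL hO r.val (f.symm t), xGL_mem_group hO _ _, ?_⟩
      rw [hg']
      show Φ (xGL hO r.val (f.symm t)) = _
      rw [key, RingEquiv.apply_symm_apply]
  refine ⟨(Φ.subgroupMap (D.group F)).trans (MulEquiv.subgroupCongr hmap), ?_⟩
  intro g r t _ hg
  show ((Φ (g : GL D.Idx F) : GL D.Idx F) : Matrix D.Idx D.Idx F) = _
  rw [hval, hg]
  exact x_map (f : F →+* F) r t

end Cfsg.Agent.H37
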