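import Mathlib

/-!
The image of `c ↦ (∏ i, c_i ^ A i j)_j` on the units of a finite field, from an integer certificate.
-/
set_option autoImplicit false

namespace Cfsg.Agent.H37

open Matrix

/-- A certificate for the kernel of an integer matrix on any abelian group: it is freely
parametrised by the coordinates at `e` pivots, each killed by `d`. -/
structure KerCert {l : ℕ} (A : Matrix (Fin l) (Fin l) ℤ) (d e : ℕ) where
  piv : Fin e → Fin l
  K : Matrix (Fin e) (Fin l) ℤ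
  Y : Matrix (Fin l) (Fin l) ℤ
  Z : Matrix (Fin e) (Fin l) ℤ
  L : Matrix (Fin e) (Fin l) ℤ
  hY : ∀ i j, ∑ k, A i k * Y k j
    = (if i = j then 1 else 0) - ∑ a, if i = piv a then K a j else 0
  hZ : ∀ a i, ∑ k, A i k * Z a k = if i = piv a then (d : ℤ) else 0
  hL : ∀ a j, ∑ i, K a i * A i j = (d : ℤ) * L a j
  hK : ∀ a b, K a (piv b) = if a = b then 1 else 0

variable {l : ℕ}

/-- The map `v ↦ (∑ i, A i j • v i)_j`. -/
def cartanHom (A : Matrix (Fin l) (Fin l) ℤ) (M : Type*) [AddCommGroup M] :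
    (Fin l → M) →+ (Fin l → M) where
  toFun v j := ∑ i, A i j • v i
  map_zero' := by ext j; simp
  map_add' v w := by ext j; simp [smul_add, Finset.sum_add_distrib]

theorem cartanHom_apply (A : Matrix (Fin l) (Fin l) ℤ) {M : Type*} [AddCommGroup M]
    (v : Fin l → M) (j : Fin l) : cartanHom A M v j = ∑ i, A i j • v i := rfl

theorem sum_smul_comp {M : Type*} [AddCommGroup M] (A : Matrix (Fin l) (Fin l) ℤ) (v : Fin l → M)
    (c : Fin l → ℤ) : ∑ i, (∑ k, A i k * c k) • v i = ∑ k, c k • cartanHom A M v k := by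
  simp only [cartanHom_apply, Finset.smul_sum, Finset.sum_smul, smul_smul]
  rw [Finset.sum_comm]
  simp [mul_comm]

variable {A : Matrix (Fin l) (Fin l) ℤ} {d e : ℕ}

theorem KerCert.mem_ker_iff (C : KerCert A d e) {M : Type*} [AddCommGroup M] {v : Fin l → M} :
    v ∈ (cartanHom A M).ker ↔
      (∀ a, (d : ℤ) • v (C.piv a) = 0) ∧ ∀ j, v j = ∑ a, C.K a j • v (C.piv a) := by
  rw [AddMonoidHom.mem_ker]
  constructor
  · intro h
    refine ⟨fun a => ?_, fun j => ?_⟩
    · have := sum_smul_comp A v fun k => C.Z a k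
      simp only [h, C.hZ, Pi.zero_apply, smul_zero, Finset.sum_const_zero, ite_smul, zero_smul,
        Finset.sum_ite_eq', Finset.mem_univ, if_true] at this
      exact this
    · have := sum_smul_comp A v fun k => C.Y k j
      simp only [h, C.hY, Pi.zero_apply, smul_zero, Finset.sum_const_zero, sub_smul,
        Finset.sum_sub_distrib, ite_smul, zero_smul, one_smul, Finset.sum_ite_eq', Finset.mem_univ,
        if_true, Finset.sum_smul] at this
      rw [Finset.sum_comm] at this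
      simp only [Finset.sum_ite_eq', Finset.mem_univ, if_true] at this
      exact sub_eq_zero.1 this
  · rintro ⟨hd, hv⟩
    ext j
    rw [cartanHom_apply, Pi.zero_apply]
    calc ∑ i, A i j • v i = ∑ i, ∑ a, (C.K a i * A i j) • v (C.piv a) := by
          refine Finset.sum_congr rfl fun i _ => ?_
          rw [hv i, Finset.smul_sum]
          simp [smul_smul, mul_comm]
      _ = ∑ a, ((d : ℤ) * C.L a j) • v (C.piv a) := by
          rw [Finset.sum_comm]
          exact Finset.sum_congr rfl fun a _ => by rw [← Finset.sum_smul, C.hL]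
      _ = 0 := by
          refine Finset.sum_eq_zero fun a _ => ?_
          rw [mul_comm, mul_smul, hd a, smul_zero]

/-- The kernel is `M[d]^e`. -/
noncomputable def KerCert.kerEquiv (C : KerCert A d e) (M : Type*) [AddCommGroup M] :
    ↥(cartanHom A M).ker ≃ (Fin e → {z : M // d • z = 0}) where
  toFun v a := ⟨v.1 (C.piv a), by
    have := (C.mem_ker_iff.1 v.2).1 a
    rwa [natCast_zsmul] at this⟩
  invFun z := ⟨fun j => ∑ a, C.K a j • (z a).1, by
    refine C.mem_ker_iff.2 ⟨fun a => ?_, fun j => ?_⟩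
    · simp [C.hK, ite_smul, (z a).2]
    · simp [C.hK, ite_smul]⟩
  left_inv v := Subtype.ext (funext fun j => ((C.mem_ker_iff.1 v.2).2 j).symm)
  right_inv z := funext fun a => Subtype.ext (by simp [C.hK, ite_smul])

theorem KerCert.card_range (C : KerCert A d e) (M : Type*) [AddCommGroup M] [Finite M] :
    Nat.card {z : M // d • z = 0} ^ e * Nat.card (cartanHom A M).range = Nat.card M ^ l := by
  have h1 : Nat.card (cartanHom A M).ker = Nat.card {z : M // d • z = 0} ^ e := by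
    rw [Nat.card_congr (C.kerEquiv M), Nat.card_fun, Nat.card_fin]
  have h2 : Nat.card (Fin l → M)
      = Nat.card (cartanHom A M).range * Nat.card (cartanHom A M).ker := by
    rw [AddSubgroup.card_eq_card_quotient_mul_card_addSubgroup (cartanHom A M).ker,
      Nat.card_congr (QuotientAddGroup.quotientKerEquivRange (cartanHom A M)).toEquiv]
  rw [Nat.card_fun, Nat.card_fin, h1] at h2
  rw [h2, mul_comm]

theorem card_torsion_units (F : Type*) [Field F] [Finite F] (d : ℕ) :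
    Nat.card {z : Additive Fˣ // d • z = 0} = Nat.gcd d (Nat.card F - 1) := by
  rw [← Nat.card_units, Nat.gcd_comm, ← IsCyclic.card_powMonoidHom_ker Fˣ d]
  refine Nat.card_congr (Equiv.subtypeEquiv Additive.toMul fun z => ?_)
  rw [MonoidHom.mem_ker, powMonoidHom_apply, ← toMul_nsmul, toMul_eq_one]

/-- Cartan matrix `A_{p_i, p_j}`, rows indexed by `i`. -/
def cartanG2 : Matrix (Fin 2) (Fin 2) ℤ := !![2, -3; -1, 2]
/-- Cartan matrix of type B₂. -/
def cartanB2 : Matrix (Fin 2) (Fin 2) ℤ := !![2, -2; -1, 2]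
/-- Cartan matrix of type D₄. -/
def cartanD4 : Matrix (Fin 4) (Fin 4) ℤ :=
  !![2, -1, 0, 0; -1, 2, -1, -1; 0, -1, 2, 0; 0, -1, 0, 2]
/-- Cartan matrix of type F₄. -/
def cartanF4 : Matrix (Fin 4) (Fin 4) ℤ :=
  !![2, -1, 0, 0; -1, 2, -2, 0; 0, -1, 2, -1; 0, 0, -1, 2]
/-- Cartan matrix of type E6. -/
def cartanE6 : Matrix (Fin 6) (Fin 6) ℤ :=
  !![2, 0, -1, 0, 0, 0; 0, 2, 0, -1, 0, 0; -1, 0, 2, -1, 0, 0; 0, -1, -1, 2, -1, 0; 0, 0, 0, -1, 2, -1; 0, 0, 0, 0, -1, 2]
/-- Cartan matrix of type E7. -/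
def cartanE7 : Matrix (Fin 7) (Fin 7) ℤ :=
  !![2, 0, -1, 0, 0, 0, 0; 0, 2, 0, -1, 0, 0, 0; -1, 0, 2, -1, 0, 0, 0; 0, -1, -1, 2, -1, 0, 0; 0, 0, 0, -1, 2, -1, 0; 0, 0, 0, 0, -1, 2, -1; 0, 0, 0, 0, 0, -1, 2]
/-- Cartan matrix of type E8. -/
def cartanE8 : Matrix (Fin 8) (Fin 8) ℤ :=
  !![2, 0, -1, 0, 0, 0, 0, 0; 0, 2, 0, -1, 0, 0, 0, 0; -1, 0, 2, -1, 0, 0, 0, 0; 0, -1, -1, 2, -1, 0, 0, 0; 0, 0, 0, -1, 2, -1, 0, 0; 0, 0, 0, 0, -1, 2, -1, 0; 0, 0, 0, 0, 0, -1, 2, -1; 0, 0, 0, 0, 0, 0, -1, 2]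

/-- Kernel certificate of type G2. -/
def kerCertG2 : KerCert cartanG2 1 0 where
  piv := ![]
  K := fun a => Fin.elim0 a
  Y := !![2, 3; 1, 2]
  Z := fun a => Fin.elim0 a
  L := fun a => Fin.elim0 a
  hY := by decide +kernel
  hZ := by decide +kernel
  hL := by decide +kernel
  hK := by decide +kernel

/-- Kernel certificate of type B2. -/
def kerCertB2 : KerCert cartanB2 2 1 where
  piv := ![0]
  K := !![1, 0]
  Y := !![0, 1; 0, 1]
  Z := !![2, 1]
  L := !![1, -1]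
  hY := by decide +kernel
  hZ := by decide +kernel
  hL := by decide +kernel
  hK := by decide +kernel

/-- Kernel certificate of type D4. -/
def kerCertD4 : KerCert cartanD4 2 2 where
  piv := ![0, 2]
  K := !![1, 0, 0, 1; 0, 0, 1, 1]
  Y := !![0, 1, 0, -1; 0, 2, 0, -1; 0, 1, 0, -1; 0, 1, 0, 0]
  Z := !![2, 2, 1, 1; 1, 2, 2, 1]
  L := !![1, -1, 0, 1; 0, -1, 1, 1]
  hY := by decide +kernel
  hZ := by decide +kernel
  hL := by decide +kernel
  hK := by decide +kernel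

/-- Kernel certificate of type F4. -/
def kerCertF4 : KerCert cartanF4 1 0 where
  piv := ![]
  K := fun a => Fin.elim0 a
  Y := !![2, 3, 4, 2; 3, 6, 8, 4; 2, 4, 6, 3; 1, 2, 3, 2]
  Z := fun a => Fin.elim0 a
  L := fun a => Fin.elim0 a
  hY := by decide +kernel
  hZ := by decide +kernel
  hL := by decide +kernel
  hK := by decide +kernel

/-- Kernel certificate of type E6. -/
def kerCertE6 : KerCert cartanE6 3 1 where
  piv := ![0]
  K := !![1, 0, -1, 0, 1, -1]
  Y := !![0, 1, 3, 2, 0, 2; 0, 2, 3, 3, 1, 2; 0, 2, 5, 4, 1, 3; 0, 3, 6, 6, 2, 4; 0, 2, 4, 4, 2, 3; 0, 1, 2, 2, 1, 2]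
  Z := !![4, 3, 5, 6, 4, 2]
  L := !![1, 0, -1, 0, 1, -1]
  hY := by decide +kernel
  hZ := by decide +kernel
  hL := by decide +kernel
  hK := by decide +kernel

/-- Kernel certificate of type E7. -/
def kerCertE7 : KerCert cartanE7 2 1 where
  piv := ![1]
  K := !![0, 1, 0, 0, 1, 0, 1]
  Y := !![2, 0, 3, 4, 1, 2, -1; 2, 0, 4, 6, 1, 3, -2; 3, 0, 6, 8, 2, 4, -2; 4, 0, 8, 12, 3, 6, -3; 3, 0, 6, 9, 3, 5, -2; 2, 0, 4, 6, 2, 4, -1; 1, 0, 2, 3, 1, 2, 0]
  Z := !![4, 7, 8, 12, 9, 6, 3]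
  L := !![0, 1, 0, -1, 1, -1, 1]
  hY := by decide +kernel
  hZ := by decide +kernel
  hL := by decide +kernel
  hK := by decide +kernel

/-- Kernel certificate of type E8. -/
def kerCertE8 : KerCert cartanE8 1 0 where
  piv := ![]
  K := fun a => Fin.elim0 a
  Y := !![4, 5, 7, 10, 8, 6, 4, 2; 5, 8, 10, 15, 12, 9, 6, 3; 7, 10, 14, 20, 16, 12, 8, 4; 10, 15, 20, 30, 24, 18, 12, 6; 8, 12, 16, 24, 20, 15, 10, 5; 6, 9, 12, 18, 15, 12, 8, 4; 4, 6, 8, 12, 10, 8, 6, 3; 2, 3, 4, 6, 5, 4, 3, 2]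
  Z := fun a => Fin.elim0 a
  L := fun a => Fin.elim0 a
  hY := by decide +kernel
  hZ := by decide +kernel
  hL := by decide +kernel
  hK := by decide +kernel

end Cfsg.Agent.H37
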