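import Cfsg.Agent.H37.Basic
import Cfsg.Agent.H37.CartanMap

/-!
The order of the diagonal subgroup, from the diagonal form of `h_p(c)` for fundamental roots `p`
and the generation of `H` by them.
-/
set_option autoImplicit false

namespace Cfsg.Agent.H37

open Cfsg.Lie

variable {D : ChevalleyDatum} {F : Type*} [Field F]

theorem coe_hDiag (hO : Ordered D)
    (hdiag : ∀ i < D.rank, ∀ c : F, c ≠ 0 → D.hMat F (D.simple i) c = Matrix.diagonal
      (Sum.elim (fun _ => (1 : F)) fun s : Fin D.nroots => c ^ (D.cartan i s)))
    (v : Fin D.rank → Fˣ) (l : List (Fin D.rank)) :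
    D.wordMat F (l.flatMap fun i => D.hWord (D.simple i.val) (v i : F)) = Matrix.diagonal
      (Sum.elim (fun _ => (1 : F)) fun s : Fin D.nroots =>
        (l.map fun i => ((v i : F) ^ (D.cartan i s))).prod) := by
  have := hO.rank_pos
  induction l with
  | nil =>
      simp only [List.flatMap_nil, ChevalleyDatum.wordMat, List.map_nil, List.prod_nil]
      rw [show (Sum.elim (fun _ => (1 : F)) fun _ : Fin D.nroots => (1 : F)) = fun _ => 1 from
        funext fun a => by rcases a <;> rfl, Matrix.diagonal_one]
  | cons i l ih =>
      have hsplit : D.wordMat F ((i :: l).flatMap fun i => D.hWord (D.simple i.val) (v i : F))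
          = D.hMat F (D.simple i.val) (v i : F) *
            D.wordMat F (l.flatMap fun i => D.hWord (D.simple i.val) (v i : F)) := by
        simp [ChevalleyDatum.wordMat, ChevalleyDatum.hMat]
      rw [hsplit, ih, hdiag i.val i.isLt _ (v i).ne_zero, Matrix.diagonal_mul_diagonal]
      congr 1
      funext a
      rcases a with j | s <;> simp

/-- `|H|` times the order of the kernel of the Cartan map is `(q - 1) ^ l`. -/
theorem card_diagonal [Finite F] (hO : Ordered D)
    (hsimple : ∀ i < D.rank, D.simple i < D.nroots)
    (hdiag : ∀ i < D.rank, ∀ c : F, c ≠ 0 → D.hMat F (D.simple i) c = Matrix.diagonal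
      (Sum.elim (fun _ => (1 : F)) fun s : Fin D.nroots => c ^ (D.cartan i s)))
    (hgen : ∀ g ∈ D.diagonalSubgroup F, ∃ c : ℕ → F, (∀ i < D.rank, c i ≠ 0) ∧
      ((g : GL D.Idx F) : Matrix D.Idx D.Idx F) =
        D.wordMat F ((List.range D.rank).flatMap fun i => D.hWord (D.simple i) (c i)))
    (cf : ℕ → ℕ → ℤ)
    (hlin : ∀ i < D.rank, ∀ s < D.nroots, D.cartan i s
      = ∑ j : Fin D.rank, cf s j * D.cartan i (D.simple j))
    (A : Matrix (Fin D.rank) (Fin D.rank) ℤ) (hA : ∀ i j, A i j = D.cartan i.val (D.simple j.val))
    {d e : ℕ} (C : KerCert A d e) :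
    Nat.gcd d (Nat.card F - 1) ^ e * Nat.card (D.diagonalSubgroup F)
      = (Nat.card F - 1) ^ D.rank := by
  let word : (Fin D.rank → Fˣ) → List (ℕ × F) := fun v =>
    (List.finRange D.rank).flatMap fun i => D.hWord (D.simple i.val) (v i : F)
  have hword : ∀ v, D.wordMat F (word v) = Matrix.diagonal
      (Sum.elim (fun _ => (1 : F)) fun s : Fin D.nroots =>
        ((∏ i : Fin D.rank, v i ^ (D.cartan i s) : Fˣ) : F)) := by
    intro v
    rw [coe_hDiag hO hdiag]
    congr 1
    funext a
    rcases a with j | s
    · rfl
    · simp only [Sum.elim_inr]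
      rw [← Fin.prod_univ_def]
      push_cast
      rfl
  let ψ : (Fin D.rank → Fˣ) →* GL D.Idx F :=
    { toFun := fun v => wordGL hO (word v)
      map_one' := Units.ext (by
        rw [coe_wordGL, hword, Units.val_one, ← Matrix.diagonal_one]
        congr 1; funext a; rcases a <;> simp)
      map_mul' := fun v w => Units.ext (by
        rw [Units.val_mul, coe_wordGL, coe_wordGL, coe_wordGL, hword, hword, hword,
          Matrix.diagonal_mul_diagonal]
        congr 1
        funext a
        rcases a with j | s
        · simp
        · simp [mul_zpow, Finset.prod_mul_distrib]) }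
  have hprod : ∀ (l : List (Fin D.rank)) (v : Fin D.rank → Fˣ),
      wordGL hO (l.flatMap fun i => D.hWord (D.simple i.val) (v i : F))
        ∈ D.diagonalSubgroup F := by
    intro l v
    induction l with
    | nil => simp [wordGL]
    | cons i l ih =>
        have : wordGL hO ((i :: l).flatMap fun i => D.hWord (D.simple i.val) (v i : F))
            = hGL hO (D.simple i.val) (v i : F) *
              wordGL hO (l.flatMap fun i => D.hWord (D.simple i.val) (v i : F)) := by
          simp [wordGL, hGL]
        rw [this]
        exact mul_mem (hGL_mem_diagonal hO (hsimple _ i.isLt) (v i).ne_zero) ih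
  have hrange : ψ.range = D.diagonalSubgroup F := by
    refine le_antisymm ?_ fun g hg => ?_
    · rintro _ ⟨v, rfl⟩
      exact hprod _ v
    · obtain ⟨c, hc, hg'⟩ := hgen g hg
      refine ⟨fun i => Units.mk0 (c i.val) (hc i.val i.isLt), Units.ext ?_⟩
      show ((wordGL hO (word _) : GL D.Idx F) : Matrix D.Idx D.Idx F) = _
      rw [coe_wordGL, hg', ← List.map_coe_finRange_eq_range, List.flatMap_map]
      rfl
  have hker : Nat.card ψ.ker = Nat.card (cartanHom A (Additive Fˣ)).ker := by
    refine Nat.card_congr (Equiv.subtypeEquiv
      (Equiv.piCongrRight fun _ => Additive.ofMul) fun v => ?_)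
    rw [MonoidHom.mem_ker, AddMonoidHom.mem_ker]
    have hcond : ψ v = 1 ↔ ∀ s : Fin D.nroots, (∏ i : Fin D.rank, v i ^ (D.cartan i s)) = 1 := by
      rw [Units.ext_iff]
      show ((wordGL hO (word v) : GL D.Idx F) : Matrix D.Idx D.Idx F) = 1 ↔ _
      rw [coe_wordGL, hword, ← Matrix.diagonal_one, Matrix.diagonal_injective.eq_iff, funext_iff]
      constructor
      · intro h s
        have := h (.inr s)
        simp only [Sum.elim_inr] at this
        exact Units.ext this
      · intro h a
        rcases a with j | s
        · rfl
        · simp only [Sum.elim_inr]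
          exact congrArg Units.val (h s)
    have hA' : ∀ j : Fin D.rank, cartanHom A (Additive Fˣ) (fun i => Additive.ofMul (v i)) j
        = Additive.ofMul (∏ i : Fin D.rank, v i ^ (D.cartan i (D.simple j.val))) := by
      intro j
      rw [cartanHom_apply, ofMul_prod]
      exact Finset.sum_congr rfl fun i _ => by rw [hA, ofMul_zpow]
    rw [hcond]
    constructor
    · intro h
      funext j
      show cartanHom A (Additive Fˣ) (fun i => Additive.ofMul (v i)) j = 0
      rw [hA' j, show (∏ i : Fin D.rank, v i ^ (D.cartan i (D.simple j.val))) = 1 from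
        h ⟨D.simple j.val, hsimple _ j.isLt⟩, ofMul_one]
    · intro h s
      have h' : ∀ j : Fin D.rank, (∏ i : Fin D.rank, v i ^ (D.cartan i (D.simple j.val))) = 1 := by
        intro j
        have := congrFun h j
        change cartanHom A (Additive Fˣ) (fun i => Additive.ofMul (v i)) j = 0 at this
        rw [hA' j, ← ofMul_one] at this
        exact Additive.ofMul.injective this
      calc (∏ i : Fin D.rank, v i ^ (D.cartan i s))
          = ∏ i : Fin D.rank, ∏ j : Fin D.rank,
              (v i ^ (D.cartan i (D.simple j.val))) ^ (cf s j) := by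
            refine Finset.prod_congr rfl fun i _ => ?_
            rw [hlin i i.isLt s s.isLt]
            have hz : ∀ (a : Fˣ) (t : Finset (Fin D.rank)) (f : Fin D.rank → ℤ),
                a ^ (∑ j ∈ t, f j) = ∏ j ∈ t, a ^ (f j) := by
              intro a t f
              induction t using Finset.cons_induction with
              | empty => simp
              | cons x t hx ih => rw [Finset.sum_cons, Finset.prod_cons, zpow_add, ih]
            rw [hz]
            exact Finset.prod_congr rfl fun j _ => by rw [← zpow_mul, mul_comm]
        _ = 1 := by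
            rw [Finset.prod_comm]
            refine Finset.prod_eq_one fun j _ => ?_
            rw [Finset.prod_zpow, h' j, one_zpow]
  have h1 : Nat.card (Fin D.rank → Fˣ) = Nat.card ψ.range * Nat.card ψ.ker := by
    rw [Subgroup.card_eq_card_quotient_mul_card_subgroup ψ.ker,
      Nat.card_congr (QuotientGroup.quotientKerEquivRange ψ).toEquiv]
  rw [hrange, Nat.card_fun, Nat.card_fin, Nat.card_units, hker,
    Nat.card_congr (C.kerEquiv (Additive Fˣ)), Nat.card_fun, Nat.card_fin,
    card_torsion_units] at h1
  rw [h1, mul_comm]

end Cfsg.Agent.H37
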