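import Cfsg.Agent.H45.J4Rep
import Cfsg.Prelude.Def_Sporadic

/-!
The Janko group J₄ in dimension 112 over the field with two elements, given simplicity and order.
-/

set_option autoImplicit false

namespace Cfsg.Agent.H37.J4Glue

open Cfsg.Agent.H45 in
theorem rho_injective (hs : IsSimpleGroup Cfsg.Spor.J4) : Function.Injective J4Rep.rho := by
  rcases (MonoidHom.normal_ker J4Rep.rho).eq_bot_or_eq_top with h | h
  · exact (MonoidHom.ker_eq_bot_iff _).1 h
  · exfalso
    have hx := MonoidHom.mem_ker.1 (h ▸ Subgroup.mem_top (PresentedGroup.of Cfsg.Spor.J4.Gen.x))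
    rw [J4Rep.rho_of] at hx
    exact J4Rep.ux_ne_one hx

theorem isJ4_range {G M : Type*} [Group G] [Group M] (f : G →* M) (hf : Function.Injective f)
    (hs : IsSimpleGroup G) (hc : Nat.card G = 86775571046077562880) : Cfsg.IsJ4 f.range :=
  ⟨(MonoidHom.ofInjective hf).isSimpleGroup_congr.mp hs,
    (Nat.card_congr (MonoidHom.ofInjective hf).toEquiv).symm.trans hc⟩

theorem matrix_realisation (hs : IsSimpleGroup Cfsg.Spor.J4)
    (hc : Nat.card Cfsg.Spor.J4 = 86775571046077562880) :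
    ∃ H : Subgroup (GL (Fin 112) (ZMod 2)), Cfsg.IsJ4 H :=
  ⟨_, isJ4_range (M := GL (Fin 112) (ZMod 2)) Cfsg.Agent.H45.J4Rep.rho (rho_injective hs) hs hc⟩

end Cfsg.Agent.H37.J4Glue
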