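import Cfsg.Agent.H37.ONSub
import Cfsg.Agent.H45.OnWMain
import Cfsg.Prelude.Def_Sporadic

/-!
The O'Nan group as a permutation group of degree 122760, given simplicity, order and a faithful representation.
-/

set_option autoImplicit false

namespace Cfsg.Agent.H37.ONPerm

theorem of_subgroup {G : Type*} [Group G] {n : ℕ} [NeZero n] (hs : IsSimpleGroup G) (U : Subgroup G) [Finite G]
    (hn : U.index = n) (hU : 1 < U.index) :
    ∃ H : Subgroup (Equiv.Perm (Fin n)), ∃ _e : G ≃* H, MulAction.IsPretransitive H (Fin n) ∧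
      Nat.card (MulAction.stabilizer H (0 : Fin n)) = Nat.card U := by
  have hcard : Nat.card (G ⧸ U) = n := by rw [← hn, Subgroup.index]
  let E : G ⧸ U ≃ Fin n := Finite.equivFinOfCardEq hcard
  let ρ : G →* Equiv.Perm (Fin n) := E.permCongrHom.toMonoidHom.comp (MulAction.toPermHom G (G ⧸ U))
  have hρ : ∀ (g : G) (i : Fin n), ρ g i = E (g • E.symm i) := fun g i => rfl
  have hne : U ≠ ⊤ := fun h => by
    rw [h, Subgroup.index_top] at hU
    exact lt_irrefl _ hU
  have hinj : Function.Injective ρ := by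
    rcases (MonoidHom.normal_ker ρ).eq_bot_or_eq_top with h | h
    · exact (MonoidHom.ker_eq_bot_iff ρ).1 h
    · exfalso
      refine hne (eq_top_iff.2 fun g _ => ?_)
      have hg : ρ g = 1 := MonoidHom.mem_ker.1 (by rw [h]; trivial)
      have h1 := Equiv.congr_fun hg (E ((1 : G) : G ⧸ U))
      rw [hρ, Equiv.Perm.one_apply, Equiv.symm_apply_apply] at h1
      have h2 := E.injective h1
      rw [MulAction.Quotient.smul_coe, smul_eq_mul, mul_one, QuotientGroup.eq, mul_one] at h2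
      simpa using U.inv_mem h2
  let e : G ≃* ρ.range := MonoidHom.ofInjective hinj
  have htr : MulAction.IsPretransitive ρ.range (Fin n) := ⟨fun i j => by
    obtain ⟨g, hg⟩ := MulAction.exists_smul_eq G (E.symm i) (E.symm j)
    refine ⟨e g, ?_⟩
    show ρ g i = j
    rw [hρ, hg, Equiv.apply_symm_apply]⟩
  refine ⟨ρ.range, e, htr, ?_⟩
  have h1 : (MulAction.stabilizer ρ.range (0 : Fin n)).index = U.index := by
    rw [MulAction.index_stabilizer_of_transitive _ _, Nat.card_fin, hn]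
  have h2 := (MulAction.stabilizer ρ.range (0 : Fin n)).card_mul_index
  rw [h1, ← Nat.card_congr e.toEquiv, ← U.card_mul_index] at h2
  exact Nat.eq_of_mul_eq_mul_right (by omega) h2

theorem exists_iso_subgroup {G H : Type*} [Group G] [Group H] (e : G ≃* H) (K : Subgroup G) :
    ∃ K' : Subgroup H, Nonempty (K ≃* K') := ⟨K.map e.toMonoidHom, ⟨e.subgroupMap K⟩⟩

open Cfsg.Spor Cfsg.Agent.H45 in
theorem card_sub [Nontrivial Cfsg.Spor.ON] :
    ∃ U : Subgroup Cfsg.Spor.ON, Nat.card U = 3753792 := by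
  obtain ⟨e, -⟩ := OnWMain.exists_iso
  obtain ⟨η, hη⟩ := OnWMain.exists_eta
  refine ⟨η.range, ?_⟩
  rw [← Nat.card_congr (MonoidHom.ofInjective (OnWMain.eta_injective η hη inferInstance)).toEquiv,
    Nat.card_congr e.toEquiv, OnWModel.card_M2]

theorem perm_realisation (hs : IsSimpleGroup Cfsg.Spor.ON) (hc : Nat.card Cfsg.Spor.ON = 460815505920)
    (hinj : Function.Injective Cfsg.Agent.H5.ON.proj) :
    ∃ H : Subgroup (Equiv.Perm (Fin 122760)), Cfsg.IsON H ∧ MulAction.IsPretransitive H (Fin 122760) ∧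
      Nat.card (MulAction.stabilizer H (0 : Fin 122760)) = 3753792 ∧
      (∃ K : Subgroup H, Cfsg.IsJ1 K) ∧ (∃ K : Subgroup H, Cfsg.IsM11 K) := by
  have : Finite Cfsg.Spor.ON := Nat.finite_of_card_ne_zero (by rw [hc]; norm_num)
  have : Nontrivial Cfsg.Spor.ON := hs.toNontrivial
  obtain ⟨U, hU⟩ := card_sub
  have hidx : U.index = 122760 := by
    have h := U.card_mul_index
    rw [hU, hc] at h
    omega
  obtain ⟨H, e, htr, hst⟩ := of_subgroup (n := 122760) hs U hidx (by omega)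
  obtain ⟨⟨K, hK⟩, ⟨L, hL⟩⟩ := ONSub.subgroups hinj
  obtain ⟨K', ⟨eK⟩⟩ := exists_iso_subgroup e K
  obtain ⟨L', ⟨eL⟩⟩ := exists_iso_subgroup e L
  refine ⟨H, ⟨e.isSimpleGroup_congr.mp hs, (Nat.card_congr e.toEquiv).symm.trans hc⟩, htr, hst.trans hU, ?_, ?_⟩
  · exact ⟨K', eK.isSimpleGroup_congr.mp hK.1, (Nat.card_congr eK.toEquiv).symm.trans hK.2⟩
  · exact ⟨L', eL.isSimpleGroup_congr.mp hL.1, (Nat.card_congr eL.toEquiv).symm.trans hL.2⟩

end Cfsg.Agent.H37.ONPerm
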