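import Cfsg.Agent.H37.ONSub.J1Main
import Cfsg.Agent.H37.ONSub.M11Main

/-!
The presented O'Nan group contains `J₁` and `M₁₁`, once its projective representation is faithful.
-/

set_option autoImplicit false

namespace Cfsg.Agent.H37.ONSub

theorem subgroups (hinj : Function.Injective Cfsg.Agent.H5.ON.proj) :
    (∃ K : Subgroup Cfsg.Spor.ON, Cfsg.IsJ1 K) ∧ (∃ K : Subgroup Cfsg.Spor.ON, Cfsg.IsM11 K) :=
  ⟨J1.exists_subgroup hinj, M11.exists_subgroup hinj⟩

end Cfsg.Agent.H37.ONSub
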