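import Cfsg.Agent.H5.ON.Rep
import Cfsg.Agent.H37.ONTriple.Cover
import Cfsg.Prelude.Def_Sporadic

/-!
The triple cover of the O'Nan group in the special linear group of degree 45, given simplicity and order.
-/

set_option autoImplicit false
set_option maxRecDepth 10000

namespace Cfsg.Agent.H37.ONTriple

open Cfsg.Agent.H5.ON Cfsg.Spor

attribute [local irreducible] U lift

/-- determinants of the letters -/
noncomputable def dl (l : ℕ) : (ZMod 7)ˣ := Matrix.GeneralLinearGroup.det (U l)

theorem det_evU (w : List ℕ) : Matrix.GeneralLinearGroup.det (evU w) = (w.map dl).prod := by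
  induction w with
  | nil => rw [evU_nil, map_one]; rfl
  | cons l w ih => rw [evU_cons, map_mul, ih, List.map_cons, List.prod_cons]; rfl

theorem det_smul_one {n : ℕ} {R : Type*} [CommRing R] (c : R) :
    (c • (1 : Matrix (Fin n) (Fin n) R)).det = c ^ n := by
  rw [Matrix.det_smul, Matrix.det_one, mul_one, Fintype.card_fin]

theorem two_pow : (2 : ZMod 7) ^ 45 = 1 := by decide +kernel

theorem det_eq_one_of_val {n : ℕ} {R : Type*} [CommRing R] (g : GL (Fin n) R) (c : R)
    (hg : (g : Matrix (Fin n) (Fin n) R) = c • 1) (hc : c ^ n = 1) : Matrix.GeneralLinearGroup.det g = 1 := by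
  apply Units.ext
  rw [Matrix.GeneralLinearGroup.val_det_apply, hg, det_smul_one, hc, Units.val_one]

theorem det_omega : Matrix.GeneralLinearGroup.det omega = 1 := det_eq_one_of_val omega 2 rfl two_pow

theorem ix_lt (x : Cfsg.Spor.ON.Gen) : ix x < 8 := by cases x <;> decide

theorem cox_word (x y : Cfsg.Spor.ON.Gen) (hx : x ∈ coxNodes Cfsg.Spor.ON.edges)
    (hy : y ∈ coxNodes Cfsg.Spor.ON.edges) :
    (dl (ix x) * dl (ix y)) ^ coxLabel Cfsg.Spor.ON.edges x y = 1 := by
  have h := congrArg Matrix.GeneralLinearGroup.det (lift_cox x hx y hy)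
  rw [map_pow, map_mul, map_one] at h
  unfold lift at h
  exact h

theorem dl_eq_one : ∀ l, l < 7 → dl l = 1 := by
  have e1 := fun w hw hl => congrArg Matrix.GeneralLinearGroup.det
    (evU_eq_one (w := w) hl (List.all_eq_true.mp extra_check1 w hw))
  have e2 := fun w hw hl => congrArg Matrix.GeneralLinearGroup.det
    (evU_eq_omega (w := w) hl (List.all_eq_true.mp extra_check2 w hw))
  have A := e1 [0, 5, 7, 7] (by simp) (by decide)
  have E' := e2 [1, 2, 3, 6, 1, 2, 3, 6, 1, 2, 3, 6, 1, 2, 3, 6, 1, 2, 3, 6] (by simp) (by decide)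
  have F := e2 [6, 1, 2, 6, 2, 1, 6, 1, 2, 6, 2] (by simp) (by decide)
  have G := e2 [6, 4, 3, 6, 3, 4, 6, 4, 3, 6, 3] (by simp) (by decide)
  have I := congrArg Matrix.GeneralLinearGroup.det
    (evU_eq_one (w := [6, 7]) (by decide) (List.all_eq_true.mp inv_check 6 (by simp)))
  simp only [det_evU, det_omega, map_one, List.map_cons, List.map_nil, List.prod_cons, List.prod_nil, mul_one]
    at A E' F G I
  have sq : ∀ x, x ∈ coxNodes Cfsg.Spor.ON.edges → coxLabel Cfsg.Spor.ON.edges x x = 1 →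
      dl (ix x) * dl (ix x) = 1 := by
    intro x hx hl
    have h := cox_word x x hx hx
    rwa [hl, pow_one] at h
  have br : ∀ x y, x ∈ coxNodes Cfsg.Spor.ON.edges → y ∈ coxNodes Cfsg.Spor.ON.edges →
      coxLabel Cfsg.Spor.ON.edges x y = 3 → coxLabel Cfsg.Spor.ON.edges x x = 1 →
      coxLabel Cfsg.Spor.ON.edges y y = 1 → dl (ix x) = dl (ix y) := by
    intro x y hx hy hxy hxx hyy
    have h := cox_word x y hx hy
    rw [hxy] at h
    exact eq_of_comm_cube (sq x hx hxx) (sq y hy hyy) h (Commute.all _ _)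
  have s0 : dl 0 * dl 0 = 1 := sq .a (by decide) (by decide)
  have q : dl 0 = dl 1 := br .a .b (by decide) (by decide) (by decide) (by decide) (by decide)
  have r : dl 1 = dl 2 := br .b .c (by decide) (by decide) (by decide) (by decide) (by decide)
  have t : dl 3 = dl 4 := br .d .e (by decide) (by decide) (by decide) (by decide) (by decide)
  have u : dl 4 = dl 5 := br .e .f (by decide) (by decide) (by decide) (by decide) (by decide)
  have s3 : dl 3 * dl 3 = 1 := sq .d (by decide) (by decide)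
  rw [← u, ← t] at A
  rw [← r, ← q] at E' F
  rw [← t] at G
  have key : ∀ a d g i : (ZMod 7)ˣ, a * a = 1 → d * d = 1 → g * i = 1 →
      a * (d * (i * i)) = 1 →
      g * (a * (a * (g * (a * (a * (g * (a * (a * (g * a))))))))) = 1 →
      g * (d * (d * (g * (d * (d * (g * (d * (d * (g * d))))))))) = 1 →
      a * (a * (d * (g * (a * (a * (d * (g * (a * (a * (d * (g * (a * (a * (d * (g * (a * (a * (d * g)))))))))))))))))) = 1 →
      a = 1 ∧ d = 1 ∧ g = 1 := by decide +kernel
  obtain ⟨ha, hd, hg⟩ := key _ _ _ _ s0 s3 I A F G E'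
  intro l hl
  interval_cases l
  exacts [ha, q ▸ ha, r ▸ q ▸ ha, hd, t ▸ hd, u ▸ t ▸ hd, hg]

theorem det_lift (x : Cfsg.Spor.ON.Gen) : Matrix.GeneralLinearGroup.det (lift x) = 1 := by
  have h : ix x < 7 := by cases x <;> decide
  unfold lift
  exact dl_eq_one _ h

theorem prod_mem_of_forall {G : Type*} [Group G] (S : Subgroup G) (f : ℕ → G) (w : List ℕ)
    (h : ∀ l ∈ w, f l ∈ S) : (w.map f).prod ∈ S :=
  list_prod_mem fun u hu => by obtain ⟨l, hl, rfl⟩ := List.mem_map.mp hu; exact h l hl

theorem eq_one_of_smul_one {n : ℕ} {R : Type*} [CommRing R] (i : Fin n) {c : R}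
    (h : c • (1 : Matrix (Fin n) (Fin n) R) = 1) : c = 1 := by
  simpa using congrFun (congrFun h i) i

theorem evU_mem (w : List ℕ) (hw : ∀ l ∈ w, l < 8) : evU w ∈ Subgroup.closure (Set.range lift) := by
  have hl : ∀ x : Cfsg.Spor.ON.Gen, U (ix x) ∈ Subgroup.closure (Set.range lift) := fun x =>
    Subgroup.subset_closure ⟨x, by unfold lift; rfl⟩
  refine prod_mem_of_forall (G := GL45) _ U w fun l hmem => ?_
  have h8 := hw l hmem
  interval_cases l
  · exact hl .a
  · exact hl .b
  · exact hl .c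
  · exact hl .d
  · exact hl .e
  · exact hl .f
  · exact hl .g
  · rw [show U 7 = (U 6)⁻¹ from (U_inv (l := 6) (by norm_num)).symm]
    exact inv_mem (hl .g)

theorem omega_mem : omega ∈ Subgroup.closure (Set.range lift) := by
  rw [← evU_eq_omega (w := [6, 1, 2, 6, 2, 1, 6, 1, 2, 6, 2]) (by decide)
    (List.all_eq_true.mp extra_check2 _ (by simp))]
  exact evU_mem _ (by decide)

theorem val_omega : (omega : Matrix (Fin 45) (Fin 45) (ZMod 7)) = (2 : ZMod 7) • 1 := rfl

theorem val_omega_pow (n : ℕ) :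
    ((omega ^ n : GL45) : Matrix (Fin 45) (Fin 45) (ZMod 7)) = (2 : ZMod 7) ^ n • 1 := by
  rw [Units.val_pow_eq_pow_val, val_omega, smul_pow, one_pow]

theorem orderOf_omega : orderOf omega = 3 := by
  have : Fact (Nat.Prime 3) := ⟨Nat.prime_three⟩
  refine orderOf_eq_prime ?_ fun h => ?_
  · apply Units.ext
    rw [val_omega_pow, show (2 : ZMod 7) ^ 3 = 1 by decide, one_smul, Units.val_one]
  · have h1 : (2 : ZMod 7) • (1 : Matrix (Fin 45) (Fin 45) (ZMod 7)) = 1 :=
      val_omega.symm.trans ((congrArg Units.val h).trans Units.val_one)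
    exact absurd (eq_one_of_smul_one ⟨0, by norm_num⟩ h1) (by decide)

theorem mem_zpowers_omega (h : GL45) (hc : h ∈ Subgroup.center GL45)
    (hd : Matrix.GeneralLinearGroup.det h = 1) : h ∈ Subgroup.zpowers omega := by
  rw [Matrix.GeneralLinearGroup.center_eq_range_scalar] at hc
  obtain ⟨c, rfl⟩ := hc
  have h45 : (c : ZMod 7) ^ 45 = 1 := by
    have := congrArg Units.val hd
    rw [Matrix.GeneralLinearGroup.val_det_apply, Units.val_one] at this
    simpa [Matrix.det_diagonal] using this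
  have key : ∀ c : ZMod 7, c ^ 45 = 1 → ∃ n : Fin 3, c = (2 : ZMod 7) ^ (n : ℕ) := by decide +kernel
  obtain ⟨n, hn⟩ := key _ h45
  refine ⟨((n : ℕ) : ℤ), ?_⟩
  show omega ^ ((n : ℕ) : ℤ) = _
  rw [zpow_natCast]
  apply Units.ext
  rw [val_omega_pow, ← hn]
  ext i j
  simp [Matrix.diagonal_apply, Matrix.one_apply]

theorem center_trivial (hs : IsSimpleGroup Cfsg.Spor.ON) (hc : Nat.card Cfsg.Spor.ON = 460815505920) :
    Subgroup.center Cfsg.Spor.ON = ⊥ := by
  refine (inferInstance : (Subgroup.center Cfsg.Spor.ON).Normal).eq_bot_or_eq_top.resolve_right fun h => ?_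
  let : CommGroup Cfsg.Spor.ON :=
    { (inferInstance : Group Cfsg.Spor.ON) with
      mul_comm := fun a b => (Subgroup.mem_center_iff.1 (h ▸ Subgroup.mem_top a) b).symm }
  have := IsSimpleGroup.prime_card (α := Cfsg.Spor.ON)
  rw [hc] at this
  norm_num at this

theorem triple_cover (hs : IsSimpleGroup Cfsg.Spor.ON) (hc : Nat.card Cfsg.Spor.ON = 460815505920) :
    ∃ H : Subgroup (Matrix.SpecialLinearGroup (Fin 45) (ZMod 7)), Nat.card (Subgroup.center H) = 3 ∧
      Cfsg.IsON (H ⧸ Subgroup.center H) := by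
  have hinj : Function.Injective proj := by
    rcases (MonoidHom.normal_ker proj).eq_bot_or_eq_top with h | h
    · exact (MonoidHom.ker_eq_bot_iff proj).1 h
    · exact absurd (MonoidHom.mem_ker.1 (h ▸ Subgroup.mem_top _)) proj_a_ne
  obtain ⟨H, h3, ⟨e⟩⟩ := exists_cover proj hinj (center_trivial hs hc) PresentedGroup.of
    (PresentedGroup.closure_range_of _) lift proj_of det_lift omega omega_mem omega_mem_center orderOf_omega
    mem_zpowers_omega
  exact ⟨H, h3, e.isSimpleGroup_congr.mpr hs, (Nat.card_congr e.toEquiv).trans hc⟩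

end Cfsg.Agent.H37.ONTriple
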