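import Mathlib

/-!
Matrices strictly raising a rank function, the unitriangular group they give, and its nilpotency.
-/
set_option autoImplicit false

namespace Cfsg.Agent.H37

open Matrix

variable {ι : Type*} [Fintype ι] [DecidableEq ι] {R : Type*} [CommRing R] (rk : ι → ℕ)

/-- `M` raises the rank function `rk` by at least `k`. -/
def Raises (k : ℕ) (M : Matrix ι ι R) : Prop := ∀ a b, M a b ≠ 0 → rk b + k ≤ rk a

variable {rk}

omit [Fintype ι] [DecidableEq ι] in
lemma raises_zero (k : ℕ) : Raises rk k (0 : Matrix ι ι R) := fun a b h => absurd rfl h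

omit [Fintype ι] [DecidableEq ι] in
lemma Raises.mono {j k : ℕ} (hjk : j ≤ k) {M : Matrix ι ι R} (h : Raises rk k M) :
    Raises rk j M := fun a b hab => le_trans (by omega) (h a b hab)

omit [Fintype ι] in
lemma raises_one : Raises rk 0 (1 : Matrix ι ι R) := by
  intro a b h
  by_cases hab : a = b
  · subst hab; simp
  · exact absurd (Matrix.one_apply_ne hab) h

omit [Fintype ι] [DecidableEq ι] in
lemma Raises.add {k : ℕ} {A B : Matrix ι ι R} (hA : Raises rk k A) (hB : Raises rk k B) :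
    Raises rk k (A + B) := by
  intro a b h
  by_contra hc
  have h1 : A a b = 0 := by by_contra h'; exact hc (hA a b h')
  have h2 : B a b = 0 := by by_contra h'; exact hc (hB a b h')
  exact h (by simp [h1, h2])

omit [Fintype ι] [DecidableEq ι] in
lemma Raises.neg {k : ℕ} {A : Matrix ι ι R} (hA : Raises rk k A) : Raises rk k (-A) :=
  fun a b h => hA a b fun h' => h (by simp [h'])

omit [Fintype ι] [DecidableEq ι] in
lemma Raises.sub {k : ℕ} {A B : Matrix ι ι R} (hA : Raises rk k A) (hB : Raises rk k B) :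
    Raises rk k (A - B) := by simpa [sub_eq_add_neg] using hA.add hB.neg

omit [DecidableEq ι] in
lemma Raises.mul {j k : ℕ} {A B : Matrix ι ι R} (hA : Raises rk j A) (hB : Raises rk k B) :
    Raises rk (j + k) (A * B) := by
  intro a b h
  rw [Matrix.mul_apply] at h
  obtain ⟨c, -, hc⟩ := Finset.exists_ne_zero_of_sum_ne_zero h
  have h1 := hA a c (left_ne_zero_of_mul hc)
  have h2 := hB c b (right_ne_zero_of_mul hc)
  omega

lemma Raises.pow {A : Matrix ι ι R} (hA : Raises rk 1 A) (n : ℕ) : Raises rk n (A ^ n) := by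
  induction n with
  | zero => simpa using raises_one
  | succ n ih => rw [pow_succ]; exact ih.mul hA

omit [Fintype ι] [DecidableEq ι] in
lemma Raises.eq_zero {k N : ℕ} (hN : ∀ a, rk a < N) (hk : N ≤ k) {A : Matrix ι ι R}
    (hA : Raises rk k A) : A = 0 := by
  ext a b
  by_contra h
  have := hA a b h
  have := hN a
  omega

lemma Raises.pow_eq_zero {N : ℕ} (hN : ∀ a, rk a < N) {A : Matrix ι ι R} (hA : Raises rk 1 A)
    {k : ℕ} (hk : N ≤ k) : A ^ k = 0 := (hA.pow k).eq_zero hN hk

lemma Raises.isUnit_of_sub_one {N : ℕ} (hN : ∀ a, rk a < N) {A : Matrix ι ι R}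
    (hA : Raises rk 1 (A - 1)) : IsUnit A := by
  have : IsNilpotent (A - 1) := ⟨N, hA.pow_eq_zero hN le_rfl⟩
  simpa using this.isUnit_one_add

variable (rk) (R)

/-- The group of invertible matrices congruent to one modulo matrices raising `rk` by `k`;
meaningful for `1 ≤ k`. -/
def uniCarrier (k : ℕ) : Set (GL ι R) := {g | Raises rk k ((g : Matrix ι ι R) - 1)}

variable {rk} {R}

lemma uni_one_mem (k : ℕ) : (1 : GL ι R) ∈ uniCarrier R rk k := by
  simp only [uniCarrier, Set.mem_ofPred_eq, Units.val_one, sub_self]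
  exact raises_zero k

lemma uni_mul_mem {k : ℕ} {g h : GL ι R} (hg : g ∈ uniCarrier R rk k)
    (hh : h ∈ uniCarrier R rk k) : g * h ∈ uniCarrier R rk k := by
  simp only [uniCarrier, Set.mem_ofPred_eq, Units.val_mul] at *
  have he : (g : Matrix ι ι R) * h - 1
      = ((g : Matrix ι ι R) - 1) * ((h : Matrix ι ι R) - 1)
        + ((g : Matrix ι ι R) - 1) + ((h : Matrix ι ι R) - 1) := by noncomm_ring
  rw [he]
  exact (((hg.mul hh).mono (by omega)).add hg).add hh

lemma raises_pow_sub_one {k : ℕ} {A : Matrix ι ι R} (hA : Raises rk k (A - 1)) (n : ℕ) :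
    Raises rk k (A ^ n - 1) := by
  induction n with
  | zero => simpa using raises_zero k
  | succ n ih =>
      have : A ^ (n + 1) - 1 = (A ^ n - 1) * (A - 1) + (A ^ n - 1) + (A - 1) := by
        rw [pow_succ]; noncomm_ring
      rw [this]
      exact (((ih.mul hA).mono (by omega)).add ih).add hA

lemma uni_inv_mem {k N : ℕ} (hN : ∀ a, rk a < N) (hk : 1 ≤ k) {g : GL ι R}
    (hg : g ∈ uniCarrier R rk k) : g⁻¹ ∈ uniCarrier R rk k := by
  simp only [uniCarrier, Set.mem_ofPred_eq] at *
  set A : Matrix ι ι R := (g : Matrix ι ι R) with hA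
  set X : Matrix ι ι R := 1 - A with hX
  have hXr : Raises rk k X := by simpa [hX] using hg.neg
  have hXN : X ^ (N + 1) = 0 := (hXr.mono hk).pow_eq_zero hN (by omega)
  set S : Matrix ι ι R := ∑ i ∈ Finset.range (N + 1), X ^ i with hS
  have hmul : A * S = 1 := by
    have := mul_neg_geom_sum X (N + 1)
    rw [hXN, sub_zero, hX, sub_sub_cancel] at this
    exact this
  have hinv : ((g⁻¹ : GL ι R) : Matrix ι ι R) = S := Units.inv_eq_of_mul_eq_one_right hmul
  rw [hinv, hS, Finset.sum_range_succ', pow_zero, add_sub_cancel_right]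
  intro a b h
  rw [Matrix.sum_apply] at h
  obtain ⟨i, -, hi⟩ := Finset.exists_ne_zero_of_sum_ne_zero h
  have h' : Raises rk k (X ^ (i + 1)) := by
    rw [pow_succ]
    exact (((hXr.mono hk).pow i).mul hXr).mono (by omega)
  exact h' a b hi

variable (rk) (R)

/-- The unitriangular group of level `k + 1`. -/
def uniGroup (N : ℕ) (hN : ∀ a, rk a < N) (k : ℕ) : Subgroup (GL ι R) where
  carrier := uniCarrier R rk (k + 1)
  one_mem' := uni_one_mem _
  mul_mem' := uni_mul_mem
  inv_mem' := uni_inv_mem hN (by omega)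

variable {rk} {R}

lemma uni_commutator {N : ℕ} (hN : ∀ a, rk a < N) {k : ℕ} {g h : GL ι R}
    (hg : g ∈ uniGroup R rk N hN k) (hh : h ∈ uniGroup R rk N hN 0) :
    g * h * g⁻¹ * h⁻¹ ∈ uniGroup R rk N hN (k + 1) := by
  have hg' : Raises rk (k + 1) ((g : Matrix ι ι R) - 1) := hg
  have hh' : Raises rk 1 ((h : Matrix ι ι R) - 1) := hh
  show Raises rk (k + 2) (((g * h * g⁻¹ * h⁻¹ : GL ι R) : Matrix ι ι R) - 1)
  have he : ((g * h * g⁻¹ * h⁻¹ : GL ι R) : Matrix ι ι R) - 1
      = (((g : Matrix ι ι R) - 1) * ((h : Matrix ι ι R) - 1)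
          - ((h : Matrix ι ι R) - 1) * ((g : Matrix ι ι R) - 1))
        * (((g⁻¹ * h⁻¹ : GL ι R)) : Matrix ι ι R) := by
    have h1 : ((g : Matrix ι ι R) - 1) * ((h : Matrix ι ι R) - 1)
        - ((h : Matrix ι ι R) - 1) * ((g : Matrix ι ι R) - 1)
        = (g : Matrix ι ι R) * h - h * g := by noncomm_ring
    have h2 : h * g * (g⁻¹ * h⁻¹) = 1 := by group
    rw [h1, sub_mul, ← Units.val_mul, ← Units.val_mul, ← Units.val_mul, ← Units.val_mul, h2,
      Units.val_one, ← mul_assoc]
  rw [he]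
  have hlow : Raises rk 0 (((g⁻¹ * h⁻¹ : GL ι R)) : Matrix ι ι R) := by
    have hm : Raises rk 1 (((g⁻¹ * h⁻¹ : GL ι R) : Matrix ι ι R) - 1) :=
      (uniGroup R rk N hN 0).mul_mem (inv_mem (show Raises rk 1 _ from hg'.mono (by omega)))
        (inv_mem hh)
    simpa using (hm.mono (Nat.zero_le 1)).add (raises_one (rk := rk))
  have := (((hg'.mul hh').mono (show k + 2 ≤ k + 1 + 1 by omega)).sub
    ((hh'.mul hg').mono (show k + 2 ≤ 1 + (k + 1) by omega))).mul hlow
  simpa using this

lemma uniGroup_eq_bot {N : ℕ} (hN : ∀ a, rk a < N) {k : ℕ} (hk : N ≤ k + 1) :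
    uniGroup R rk N hN k = ⊥ := by
  rw [eq_bot_iff]
  intro g hg
  have hg' : Raises rk (k + 1) ((g : Matrix ι ι R) - 1) := hg
  exact Subgroup.mem_bot.2 (Units.ext (sub_eq_zero.1 (hg'.eq_zero hN hk)))

theorem uniGroup_isNilpotent {N : ℕ} (hN : ∀ a, rk a < N) :
    Group.IsNilpotent (uniGroup R rk N hN 0) := by
  rw [Subgroup.nilpotent_iff_finite_descending_central_series]
  refine ⟨N, fun k => (uniGroup R rk N hN k).subgroupOf (uniGroup R rk N hN 0),
    ⟨Subgroup.subgroupOf_self _, ?_⟩, ?_⟩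
  · intro x n hx g
    rw [Subgroup.mem_subgroupOf] at hx ⊢
    simpa [commutatorElement_def] using uni_commutator hN hx g.2
  · show (uniGroup R rk N hN N).subgroupOf (uniGroup R rk N hN 0) = ⊥
    rw [uniGroup_eq_bot hN (k := N) (by omega)]
    exact Subgroup.bot_subgroupOf _

end Cfsg.Agent.H37
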