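import Cfsg.Prelude.Def_ChevStructure
import Cfsg.Prelude.Def_ChevG2
import Cfsg.Prelude.Def_ChevB2
import Cfsg.Prelude.Def_ChevD4
import Cfsg.Prelude.Def_ChevF4
import Cfsg.Prelude.Def_ChevE6
import Cfsg.Prelude.Def_ChevE7
import Cfsg.Prelude.Def_ChevE8
import Cfsg.Agent.H37.Triangular

/-!
Order facts about the Chevalley tables: the negative roots are the first half of the index set,
negation reverses the list, positive root elements are unitriangular for the order
"negative roots < coroots < positive roots", negative ones for the reverse order.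
-/
set_option autoImplicit false

namespace Cfsg.Agent.H37

open Cfsg.Lie

/-- The kernel-checked order facts of a tabulated datum at the root `r`. -/
def orderCheckAt (D : ChevalleyDatum) (r : ℕ) : Bool :=
  (D.negIdx.getD r 0 == D.nroots - 1 - r) &&
  (decide (D.IsPosRoot r) == decide (D.nroots / 2 ≤ r)) &&
  (decide (D.IsNegRoot r) == decide (r < D.nroots / 2)) &&
  ((D.chain.getD r #[]).toList.all fun e =>
    e.2.toList.all fun q =>
      if D.nroots / 2 ≤ r then decide (e.1 < q.1) else decide (q.1 < e.1))

/-- The order facts of a tabulated datum. -/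
structure Ordered (D : ChevalleyDatum) : Prop where
  even : 2 * (D.nroots / 2) = D.nroots
  rank_pos : 0 < D.rank
  check : ∀ r < D.nroots, orderCheckAt D r = true

lemma ordered_mk {D : ChevalleyDatum}
    (h : (decide (2 * (D.nroots / 2) = D.nroots) && decide (0 < D.rank) &&
      (List.range D.nroots).all (orderCheckAt D)) = true) : Ordered D := by
  simp only [Bool.and_eq_true, decide_eq_true_eq, List.all_eq_true, List.mem_range] at h
  exact ⟨h.1.1, h.1.2, h.2⟩

theorem ordered_g2 : Ordered chevG2 := ordered_mk (by decide +kernel)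
theorem ordered_b2 : Ordered chevB2 := ordered_mk (by decide +kernel)
theorem ordered_d4 : Ordered chevD4 := ordered_mk (by decide +kernel)
theorem ordered_f4 : Ordered chevF4 := ordered_mk (by decide +kernel)
theorem ordered_e6 : Ordered chevE6 := ordered_mk (by decide +kernel)
theorem ordered_e7 : Ordered chevE7 := ordered_mk (by decide +kernel)
theorem ordered_e8 : Ordered chevE8 := ordered_mk (by decide +kernel)

theorem ordered_of_mem {D : ChevalleyDatum}
    (hD : D ∈ [chevG2, chevB2, chevD4, chevF4, chevE6, chevE7, chevE8]) : Ordered D := by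
  simp only [List.mem_cons, List.not_mem_nil, or_false] at hD
  rcases hD with rfl | rfl | rfl | rfl | rfl | rfl | rfl
  exacts [ordered_g2, ordered_b2, ordered_d4, ordered_f4, ordered_e6, ordered_e7, ordered_e8]

variable {D : ChevalleyDatum}

lemma Ordered.neg_eq (hO : Ordered D) {r : ℕ} (hr : r < D.nroots) :
    D.neg r = D.nroots - 1 - r := by
  have := hO.check r hr
  simp only [orderCheckAt, Bool.and_eq_true, beq_iff_eq] at this
  exact this.1.1.1

lemma Ordered.isPosRoot_iff (hO : Ordered D) (r : ℕ) :
    D.IsPosRoot r ↔ r < D.nroots ∧ D.nroots / 2 ≤ r := by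
  refine ⟨fun h => ⟨h.1, ?_⟩, fun h => ?_⟩
  · have := hO.check r h.1
    simp only [orderCheckAt, Bool.and_eq_true, beq_iff_eq, decide_eq_decide] at this
    exact this.1.1.2.1 h
  · have := hO.check r h.1
    simp only [orderCheckAt, Bool.and_eq_true, beq_iff_eq, decide_eq_decide] at this
    exact this.1.1.2.2 h.2

lemma Ordered.isNegRoot_iff (hO : Ordered D) (r : ℕ) :
    D.IsNegRoot r ↔ r < D.nroots / 2 := by
  have hlt : r < D.nroots / 2 → r < D.nroots := fun h => by omega
  refine ⟨fun h => ?_, fun h => ?_⟩
  · have := hO.check r h.1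
    simp only [orderCheckAt, Bool.and_eq_true, beq_iff_eq, decide_eq_decide] at this
    exact this.1.2.1 h
  · have := hO.check r (hlt h)
    simp only [orderCheckAt, Bool.and_eq_true, beq_iff_eq, decide_eq_decide] at this
    exact this.1.2.2 h

lemma Ordered.pos_or_neg (hO : Ordered D) {r : ℕ} (hr : r < D.nroots) :
    D.IsPosRoot r ∨ D.IsNegRoot r := by
  rcases Nat.lt_or_ge r (D.nroots / 2) with h | h
  · exact Or.inr ((hO.isNegRoot_iff r).2 h)
  · exact Or.inl ((hO.isPosRoot_iff r).2 ⟨hr, h⟩)

lemma Ordered.neg_lt (hO : Ordered D) {r : ℕ} (hr : r < D.nroots) : D.neg r < D.nroots := by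
  rw [hO.neg_eq hr]; omega

lemma Ordered.neg_neg (hO : Ordered D) {r : ℕ} (hr : r < D.nroots) : D.neg (D.neg r) = r := by
  rw [hO.neg_eq (hO.neg_lt hr), hO.neg_eq hr]; omega

lemma Ordered.neg_pos_iff (hO : Ordered D) {r : ℕ} (hr : r < D.nroots) :
    D.IsPosRoot (D.neg r) ↔ D.IsNegRoot r := by
  have := hO.even
  rw [hO.isPosRoot_iff, hO.isNegRoot_iff, hO.neg_eq hr]
  omega

/-- Rank of a coordinate: negative roots, then all coroots at one level, then positive roots. -/
def rk (D : ChevalleyDatum) : D.Idx → ℕ
  | .inl _ => D.nroots / 2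
  | .inr s => if s.val < D.nroots / 2 then s.val else s.val + 1

/-- The reverse rank. -/
def rkRev (D : ChevalleyDatum) (a : D.Idx) : ℕ := D.nroots - rk D a

lemma rk_le (a : D.Idx) : rk D a ≤ D.nroots := by
  rcases a with i | s
  · simp only [rk]; omega
  · have := s.isLt; simp only [rk]; split <;> omega

lemma rk_lt (a : D.Idx) : rk D a < D.nroots + 1 := Nat.lt_succ_of_le (rk_le a)

lemma rkRev_lt (a : D.Idx) : rkRev D a < D.nroots + 1 := by simp only [rkRev]; omega

lemma exists_of_chainCoeff_ne_nil {r s u : ℕ} (h : D.chainCoeff r s u ≠ []) :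
    ∃ e ∈ (D.chain.getD r #[]).toList, e.1 = s ∧ ∃ q ∈ e.2.toList, q.1 = u := by
  obtain ⟨km, hkm⟩ := List.exists_mem_of_ne_nil _ h
  simp only [ChevalleyDatum.chainCoeff, List.mem_flatMap, List.mem_map, List.mem_filter,
    decide_eq_true_eq] at hkm
  obtain ⟨e, ⟨he, hes⟩, q, ⟨hq, hqu⟩, -⟩ := hkm
  exact ⟨e, he, hes, q.1, List.fst_mem_of_mem_zipIdx hq, hqu⟩

variable {F : Type*} [Field F]

lemma x_eq_xMat {r : ℕ} (hr : r < D.nroots) (t : F) : D.x F r t = D.xMat F ⟨r, hr⟩ t := dif_pos hr

/-- The off-diagonal entries of `x_r(t)`. -/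
lemma x_support (hO : Ordered D) {r : ℕ} (hr : r < D.nroots) (t : F) {a b : D.Idx}
    (h : (D.x F r t - 1) a b ≠ 0) :
    if D.nroots / 2 ≤ r then rk D b < rk D a else rk D a < rk D b := by
  rw [Matrix.sub_apply, x_eq_xMat hr, Matrix.one_apply] at h
  have hneg := hO.neg_eq hr
  unfold ChevalleyDatum.neg at hneg
  have hev := hO.even
  rcases b with i | s
  · rcases a with i' | u
    · exfalso; apply h
      simp [ChevalleyDatum.xMat]
    · by_cases hu : u = (⟨r, hr⟩ : Fin D.nroots)
      · subst hu; simp only [rk]; split_ifs <;> omega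
      · exfalso; apply h
        simp [ChevalleyDatum.xMat, hu]
  · by_cases hs : s = (⟨r, hr⟩ : Fin D.nroots)
    · exfalso; apply h
      rcases a with i' | u
      · simp [ChevalleyDatum.xMat, hs]
      · simp [ChevalleyDatum.xMat, hs]
    · by_cases hsn : s.val = D.negIdx.getD r 0
      · rcases a with i' | u
        · simp only [rk]; rw [hneg] at hsn; split_ifs <;> omega
        · by_cases hus : u = s
          · exfalso; apply h
            simp only [ChevalleyDatum.xMat, Matrix.of_apply, if_neg hs, if_pos hsn, if_pos hus]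
            simp [hus]
          · by_cases hur : u = (⟨r, hr⟩ : Fin D.nroots)
            · subst hur; rw [hneg] at hsn; simp only [rk]; split_ifs <;> omega
            · exfalso; apply h
              simp only [ChevalleyDatum.xMat, Matrix.of_apply, if_neg hs, if_pos hsn, if_neg hus,
                if_neg hur]
              simp [hus]
      · rcases a with i' | u
        · exfalso; apply h
          simp only [ChevalleyDatum.xMat, Matrix.of_apply, if_neg hs, if_neg hsn]
          simp
        · by_cases hnil : D.chainCoeff r s.val u.val = []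
          · exfalso; apply h
            simp only [ChevalleyDatum.xMat, Matrix.of_apply, if_neg hs, if_neg hsn, hnil]
            by_cases hus : u = s <;> simp [hus]
          · obtain ⟨e, he, hes, q, hq, hqu⟩ := exists_of_chainCoeff_ne_nil hnil
            have hc := hO.check r hr
            simp only [orderCheckAt, Bool.and_eq_true, List.all_eq_true] at hc
            have := hc.2 e he q hq
            simp only [rk]
            by_cases hhalf : D.nroots / 2 ≤ r
            · simp only [hhalf, if_true, decide_eq_true_eq] at this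
              rw [if_pos hhalf]; split_ifs <;> omega
            · simp only [hhalf, if_false, decide_eq_true_eq] at this
              rw [if_neg hhalf]; split_ifs <;> omega

lemma x_raises_pos (hO : Ordered D) {r : ℕ} (hr : D.IsPosRoot r) (t : F) :
    Raises (rk D) 1 (D.x F r t - 1) := by
  intro a b h
  have := x_support hO hr.1 t h
  rw [if_pos ((hO.isPosRoot_iff r).1 hr).2] at this
  omega

lemma x_raises_neg (hO : Ordered D) {r : ℕ} (hr : D.IsNegRoot r) (t : F) :
    Raises (rkRev D) 1 (D.x F r t - 1) := by
  intro a b h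
  have := x_support hO hr.1 t h
  rw [if_neg (by have := (hO.isNegRoot_iff r).1 hr; omega)] at this
  have := rk_le a; have := rk_le b
  simp only [rkRev]
  omega

lemma x_isUnit (hO : Ordered D) (r : ℕ) (t : F) : IsUnit (D.x F r t) := by
  by_cases hr : r < D.nroots
  · rcases hO.pos_or_neg hr with h | h
    · exact (x_raises_pos hO h t).isUnit_of_sub_one rk_lt
    · exact (x_raises_neg hO h t).isUnit_of_sub_one rkRev_lt
  · simp [ChevalleyDatum.x, hr]

lemma wordMat_isUnit (hO : Ordered D) (w : List (ℕ × F)) : IsUnit (D.wordMat F w) := by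
  induction w with
  | nil => simp [ChevalleyDatum.wordMat]
  | cons p w ih =>
      simp only [ChevalleyDatum.wordMat, List.map_cons, List.prod_cons]
      exact (x_isUnit hO p.1 p.2).mul ih

/-- Unitriangular matrices for `rk`. -/
noncomputable def posUni (D : ChevalleyDatum) (F : Type*) [Field F] : Subgroup (GL D.Idx F) :=
  uniGroup F (rk D) (D.nroots + 1) rk_lt 0

/-- Unitriangular matrices for `rkRev`. -/
noncomputable def negUni (D : ChevalleyDatum) (F : Type*) [Field F] : Subgroup (GL D.Idx F) :=
  uniGroup F (rkRev D) (D.nroots + 1) rkRev_lt 0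

theorem posUnipotent_le_uni (hO : Ordered D) : D.posUnipotent F ≤ posUni D F := by
  refine (Subgroup.closure_le _).2 ?_
  rintro g ⟨r, t, hr, hg⟩
  show Raises (rk D) 1 _
  rw [hg]; exact x_raises_pos hO hr t

theorem negUnipotent_le_uni (hO : Ordered D) : D.negUnipotent F ≤ negUni D F := by
  refine (Subgroup.closure_le _).2 ?_
  rintro g ⟨r, t, hr, hg⟩
  show Raises (rkRev D) 1 _
  rw [hg]; exact x_raises_neg hO hr t

end Cfsg.Agent.H37
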